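import Groth.Agent.S4599
import Groth.Agent.SchDenseLib.Hom
import Groth.Agent.SchDenseLib.Basic
import Mathlib

/-!
# A rational map defined on the local scheme at a point is defined near the point
-/

set_option autoImplicit false
set_option linter.style.haveILetI false
set_option backward.isDefEq.respectTransparency false
set_option backward.isDefEq.respectTransparency.types false
set_option maxHeartbeats 800000

universe u

open CategoryTheory Limits AlgebraicGeometry TopologicalSpace

namespace Groth.Agent.RatExtend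

/-- Morphisms from `Spec T` to a separated scheme of finite presentation which agree on the spectrum
of a localisation agree on a principal open. -/
theorem exists_agree {T L : Type u} [CommRing T] [CommRing L] [Algebra T L] (M : Submonoid T) [IsLocalization M L]
    {Y S : Scheme.{u}} (pY : Y ⟶ S) [IsSeparated pY] [LocallyOfFinitePresentation pY]
    (a b : Spec (CommRingCat.of T) ⟶ Y) (hab : a ≫ pY = b ≫ pY)
    (h : Spec.map (CommRingCat.ofHom (algebraMap T L)) ≫ a = Spec.map (CommRingCat.ofHom (algebraMap T L)) ≫ b) :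
    ∃ s ∈ M, ∀ (L' : Type u) [CommRing L'] [Algebra T L'], IsUnit (algebraMap T L' s) →
      Spec.map (CommRingCat.ofHom (algebraMap T L')) ≫ a = Spec.map (CommRingCat.ofHom (algebraMap T L')) ≫ b := by
  let ab := pullback.lift a b hab
  let e := pullback.fst ab (pullback.diagonal pY)
  haveI : LocallyOfFinitePresentation (pullback.diagonal pY) := Groth.Agent.S4599.result pY
  have hfp : @LocallyOfFinitePresentation _ _ e :=
    MorphismProperty.pullback_fst (P := @LocallyOfFinitePresentation) _ _ inferInstance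
  haveI : IsClosedImmersion e := MorphismProperty.pullback_fst (P := @IsClosedImmersion) _ _ inferInstance
  obtain ⟨I, ε, he⟩ := (IsClosedImmersion.Spec_iff (f := e)).1 inferInstance
  have hI : I.FG := by
    have h1 : LocallyOfFinitePresentation (Spec.map (CommRingCat.ofHom (Ideal.Quotient.mk I))) := by
      rw [show Spec.map (CommRingCat.ofHom (Ideal.Quotient.mk I)) = ε.inv ≫ e by rw [he, Iso.inv_hom_id_assoc]]
      infer_instance
    have h2 := (HasRingHomProperty.Spec_iff (P := @LocallyOfFinitePresentation)).1 h1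
    haveI : Algebra.FinitePresentation T (T ⧸ I) :=
      RingHom.finitePresentation_algebraMap.1 (show (algebraMap T (T ⧸ I)).FinitePresentation from h2)
    have := Algebra.FinitePresentation.ker_fG_of_surjective (Ideal.Quotient.mkₐ T I) Ideal.Quotient.mk_surjective
    have hk : RingHom.ker (Ideal.Quotient.mkₐ T I).toRingHom = I := Ideal.mk_ker
    rwa [hk] at this
  have heq : Spec.map (CommRingCat.ofHom (Ideal.Quotient.mk I)) ≫ a =
      Spec.map (CommRingCat.ofHom (Ideal.Quotient.mk I)) ≫ b := by
    rw [show Spec.map (CommRingCat.ofHom (Ideal.Quotient.mk I)) = ε.inv ≫ e by rw [he, Iso.inv_hom_id_assoc],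
      Category.assoc, Category.assoc]
    congr 1
    have hc : e ≫ ab = pullback.snd ab (pullback.diagonal pY) ≫ pullback.diagonal pY := pullback.condition
    have h1 := congrArg (· ≫ pullback.fst pY pY) hc
    have h2 := congrArg (· ≫ pullback.snd pY pY) hc
    simp only [ab, Category.assoc, pullback.lift_fst, pullback.lift_snd, pullback.diagonal_fst,
      pullback.diagonal_snd, Category.comp_id] at h1 h2
    rw [h1, h2]
  -- the localisation factors through the equaliser
  have hIL : I ≤ RingHom.ker (algebraMap T L) := by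
    let ℓ : Spec (CommRingCat.of L) ⟶ pullback ab (pullback.diagonal pY) :=
      pullback.lift (Spec.map (CommRingCat.ofHom (algebraMap T L)))
        (Spec.map (CommRingCat.ofHom (algebraMap T L)) ≫ a) (by
          refine pullback.hom_ext ?_ ?_
          · simp [ab]
          · simp [ab, h])
    obtain ⟨ψ, hψ⟩ := Spec.map_surjective (ℓ ≫ ε.hom)
    have h1 : Spec.map (CommRingCat.ofHom (algebraMap T L)) =
        Spec.map (CommRingCat.ofHom (Ideal.Quotient.mk I) ≫ ψ) := by
      rw [Spec.map_comp, hψ, Category.assoc, ← he, pullback.lift_fst]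
    intro x hx
    have h2 := Spec.map_injective h1
    have h3 := congr($(h2).hom x)
    simp only [CommRingCat.hom_ofHom, CommRingCat.hom_comp, RingHom.comp_apply,
      Ideal.Quotient.eq_zero_iff_mem.2 hx, map_zero] at h3
    exact h3
  obtain ⟨F, hF⟩ := hI
  have hk : ∀ x ∈ F, ∃ m : M, (m : T) * x = 0 := fun x hx =>
    (IsLocalization.map_eq_zero_iff M L x).1 (hIL (hF ▸ Submodule.subset_span hx))
  choose m hm using hk
  refine ⟨∏ x ∈ F.attach, (m x.1 x.2 : T), prod_mem fun x _ => (m x.1 x.2).2, fun L' _ _ hu => ?_⟩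
  have hle : I ≤ RingHom.ker (algebraMap T L') := by
    rw [← hF]
    refine Submodule.span_le.2 fun x hx => ?_
    obtain ⟨c, hc⟩ : (m x hx : T) ∣ ∏ x ∈ F.attach, (m x.1 x.2 : T) :=
      Finset.dvd_prod_of_mem (fun y : F => (m y.1 y.2 : T)) (F.mem_attach ⟨x, hx⟩)
    refine hu.mul_right_eq_zero.1 ?_
    rw [← map_mul, hc, mul_right_comm, hm x hx, zero_mul, map_zero]
  have hfac : CommRingCat.ofHom (algebraMap T L') =
      CommRingCat.ofHom (Ideal.Quotient.mk I) ≫
        CommRingCat.ofHom (Ideal.Quotient.lift I (algebraMap T L') hle) := by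
    ext x; simp
  rw [hfac, Spec.map_comp, Category.assoc, Category.assoc, heq]

/-- Schematic density passes to opens. -/
theorem dense_preimage_ι {X : Scheme.{u}} (Z U : X.Opens) (hU : CInt.IsSchematicallyDense U) :
    CInt.IsSchematicallyDense (Z.ι ⁻¹ᵁ U) := by
  rw [SchDenseLib.iff_eq_zero] at hU ⊢
  intro V s hs
  have hle : Z.ι ''ᵁ V ⊓ U ≤ Z.ι ''ᵁ (V ⊓ Z.ι ⁻¹ᵁ U) := by
    rintro _ ⟨⟨y, hy, rfl⟩, hU⟩
    exact ⟨y, ⟨hy, hU⟩, rfl⟩
  exact hU (Z.ι ''ᵁ V) s (SchDenseLib.map_eq_zero_of_le (X := X) s
    (Z.ι.image_mono inf_le_left) hle hs)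

/-- A reduced affine scheme with finitely many components is germ injective. -/
theorem isGermInjective_Spec {R : CommRingCat.{u}} [_root_.IsReduced R] (hfin : (minimalPrimes R).Finite) :
    (Spec R).IsGermInjective := by
  classical
  refine Scheme.IsGermInjective.Spec fun I hI => ?_
  have h : ∀ q ∈ (hfin.toFinset.filter fun q : Ideal R => ¬ q ≤ I), ∃ a ∈ q, a ∉ I := fun q hq =>
    SetLike.not_le_iff_exists.1 (Finset.mem_filter.1 hq).2
  choose a ha ha' using h
  refine ⟨∏ q ∈ (hfin.toFinset.filter fun q : Ideal R => ¬ q ≤ I).attach, a q.1 q.2,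
    fun hmem => ?_, fun x y hxy hy => ⟨1, ?_⟩⟩
  · obtain ⟨q, -, hq⟩ := Ideal.IsPrime.prod_mem_iff.1 hmem
    exact ha' q.1 q.2 hq
  · rw [pow_one]
    refine IsNilpotent.eq_zero (mem_nilradical.1 ?_)
    rw [nilradical_eq_sInf, Ideal.mem_sInf]
    intro p hp
    haveI : p.IsPrime := hp
    obtain ⟨q, hq, hqp⟩ := Ideal.exists_minimalPrimes_le (bot_le : (⊥ : Ideal R) ≤ p)
    refine hqp ?_
    by_cases hqI : q ≤ I
    · haveI : q.IsPrime := hq.1.1
      refine Ideal.mul_mem_left _ _ ((Ideal.IsPrime.mem_or_mem inferInstance (hxy ▸ q.zero_mem)).resolve_left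
        fun h' => hy (hqI h'))
    · refine Ideal.mul_mem_right _ _ ?_
      have hq' : q ∈ hfin.toFinset.filter fun q : Ideal R => ¬ q ≤ I :=
        Finset.mem_filter.2 ⟨hfin.mem_toFinset.2 hq, hqI⟩
      exact Ideal.mem_of_dvd _ (Finset.dvd_prod_of_mem
        (fun q : {q // q ∈ hfin.toFinset.filter fun q : Ideal R => ¬ q ≤ I} => a q.1 q.2)
        (Finset.mem_attach _ ⟨q, hq'⟩)) (ha q hq')

end Groth.Agent.RatExtend
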