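import Groth.Agent.RatExtend.Basic
import Mathlib

/-!
# A rational map defined on the local scheme at a point is defined near the point
-/

set_option autoImplicit false
set_option linter.style.haveILetI false
set_option backward.isDefEq.respectTransparency false
set_option backward.isDefEq.respectTransparency.types false
set_option maxHeartbeats 800000

universe u

open CategoryTheory Limits AlgebraicGeometry TopologicalSpace

namespace Groth.Agent.RatExtend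

theorem isoSpec_inv_homOfLE {X : Scheme.{u}} {D E : X.Opens} (hD : IsAffineOpen D) (hE : IsAffineOpen E)
    (hle : E ≤ D) :
    Spec.map (X.presheaf.map (homOfLE hle).op) ≫ hD.isoSpec.inv = hE.isoSpec.inv ≫ X.homOfLE hle := by
  rw [← cancel_mono D.ι, Category.assoc, Category.assoc, Scheme.homOfLE_ι, IsAffineOpen.isoSpec_inv_ι,
    IsAffineOpen.isoSpec_inv_ι]
  exact hD.map_fromSpec hE _

variable {Y S : Scheme.{u}} (pY : Y ⟶ S) [IsSeparated pY] [LocallyOfFinitePresentation pY]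

/-- The affine case. -/
theorem affine_case (X : Scheme.{u}) [IsAffine X]
    (hX : IsNoetherian X ∨ (IsReduced X ∧ (irreducibleComponents ↥X).Finite))
    (U : X.Opens) (hU : CInt.IsSchematicallyDense U) (h : (U : Scheme.{u}) ⟶ Y) (x : X) (v : X ⟶ Y)
    (hS : U.ι ≫ v ≫ pY = h ≫ pY)
    (hag : pullback.fst (X.fromSpecStalk x) U.ι ≫ X.fromSpecStalk x ≫ v =
      pullback.snd (X.fromSpecStalk x) U.ι ≫ h) :
    ∃ V : X.Opens, x ∈ V ∧ (U ⊓ V).ι ≫ v = X.homOfLE (inf_le_left : U ⊓ V ≤ U) ≫ h := by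
  obtain ⟨t, ht, htU⟩ := (SchDenseLib.iff_exists_basicOpen_le hX U).1 hU
  have hDdense : CInt.IsSchematicallyDense (X.basicOpen t) :=
    (SchDenseLib.iff_exists_basicOpen_le hX _).2 ⟨t, ht, le_rfl⟩
  have hT : IsAffineOpen (⊤ : X.Opens) := isAffineOpen_top X
  have hD : IsAffineOpen (X.basicOpen t) := hT.basicOpen t
  let a : Spec Γ(X, X.basicOpen t) ⟶ Y := hD.fromSpec ≫ v
  let b : Spec Γ(X, X.basicOpen t) ⟶ Y := hD.isoSpec.inv ≫ X.homOfLE htU ≫ h
  have hab : a ≫ pY = b ≫ pY := by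
    simp only [a, b, Category.assoc, ← hS, Scheme.homOfLE_ι_assoc, IsAffineOpen.isoSpec_inv_ι_assoc]
  let M : Submonoid Γ(X, X.basicOpen t) :=
    (hT.primeIdealOf ⟨x, trivial⟩).asIdeal.primeCompl.map
      ((X.presheaf.map (homOfLE (le_top : X.basicOpen t ≤ ⊤)).op).hom)
  let L := Localization M
  let r₁ : Γ(X, ⊤) →+* L :=
    (algebraMap Γ(X, X.basicOpen t) L).comp (X.presheaf.map (homOfLE (le_top : X.basicOpen t ≤ ⊤)).op).hom
  letI := X.presheaf.algebra_section_stalk (U := ⊤) ⟨x, trivial⟩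
  haveI : IsLocalization.AtPrime (X.presheaf.stalk x) (hT.primeIdealOf ⟨x, trivial⟩).asIdeal :=
    hT.isLocalization_stalk ⟨x, trivial⟩
  have hunit : ∀ y : (hT.primeIdealOf ⟨x, trivial⟩).asIdeal.primeCompl, IsUnit (r₁ y) := fun y =>
    IsLocalization.map_units L (⟨_, ⟨y.1, y.2, rfl⟩⟩ : M)
  obtain ⟨g, hgy⟩ : ∃ g : X.presheaf.stalk x →+* L, ∀ y, g (algebraMap Γ(X, ⊤) (X.presheaf.stalk x) y) = r₁ y :=
    ⟨IsLocalization.lift hunit, fun y => IsLocalization.lift_eq hunit y⟩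
  have hg : CommRingCat.ofHom r₁ = X.presheaf.germ ⊤ x trivial ≫ CommRingCat.ofHom g :=
    CommRingCat.hom_ext (RingHom.ext fun y => (hgy y).symm)
  have hcond : Spec.map (CommRingCat.ofHom g) ≫ X.fromSpecStalk x =
      (Spec.map (CommRingCat.ofHom (algebraMap Γ(X, X.basicOpen t) L)) ≫ hD.isoSpec.inv ≫ X.homOfLE htU) ≫ U.ι := by
    rw [Category.assoc, Category.assoc, Scheme.homOfLE_ι, IsAffineOpen.isoSpec_inv_ι,
      ← hT.fromSpecStalk_eq_fromSpecStalk (x := x) trivial, IsAffineOpen.fromSpecStalk, ← Spec.map_comp_assoc,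
      ← hg, ← hT.map_fromSpec hD (homOfLE (le_top : X.basicOpen t ≤ ⊤)).op, ← Spec.map_comp_assoc]
    rfl
  have hL : Spec.map (CommRingCat.ofHom (algebraMap Γ(X, X.basicOpen t) L)) ≫ a =
      Spec.map (CommRingCat.ofHom (algebraMap Γ(X, X.basicOpen t) L)) ≫ b := by
    have h2 := congrArg (pullback.lift _ _ hcond ≫ ·) hag
    simp only [pullback.lift_fst_assoc, pullback.lift_snd_assoc] at h2
    rw [← Category.assoc (Spec.map (CommRingCat.ofHom g)), hcond] at h2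
    simp only [Category.assoc, Scheme.homOfLE_ι_assoc, IsAffineOpen.isoSpec_inv_ι_assoc] at h2
    exact h2
  obtain ⟨_, ⟨r, hr, rfl⟩, hs⟩ := exists_agree M pY a b hab hL
  refine ⟨X.basicOpen r, ?_, ?_⟩
  · have hx' : hT.fromSpec (hT.primeIdealOf ⟨x, trivial⟩) ∈ X.basicOpen r := by
      have h3 : hT.primeIdealOf ⟨x, trivial⟩ ∈ hT.fromSpec ⁻¹ᵁ X.basicOpen r := by
        rw [hT.fromSpec_preimage_basicOpen]; exact hr
      exact h3
    rwa [hT.fromSpec_primeIdealOf] at hx'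
  set r' : Γ(X, X.basicOpen t) := (X.presheaf.map (homOfLE (le_top : X.basicOpen t ≤ ⊤)).op).hom r
  let E : X.Opens := X.basicOpen r'
  have hE : IsAffineOpen E := hD.basicOpen r'
  have hED : E ≤ X.basicOpen t := X.basicOpen_le r'
  have hEeq : E = X.basicOpen t ⊓ X.basicOpen r := X.basicOpen_res r _
  have hagE : E.ι ≫ v = X.homOfLE (hED.trans htU) ≫ h := by
    letI : Algebra Γ(X, X.basicOpen t) Γ(X, E) := (X.presheaf.map (homOfLE hED).op).hom.toAlgebra
    have h4 := hs Γ(X, E) (by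
      show IsUnit (X.presheaf.map (homOfLE hED).op r')
      exact RingedSpace.isUnit_res_basicOpen _ r')
    have h5 : Spec.map (X.presheaf.map (homOfLE hED).op) ≫ a = Spec.map (X.presheaf.map (homOfLE hED).op) ≫ b := h4
    simp only [a, b] at h5
    rw [reassoc_of% (hD.map_fromSpec hE (homOfLE hED).op), reassoc_of% (isoSpec_inv_homOfLE hD hE hED),
      Scheme.homOfLE_homOfLE_assoc, ← IsAffineOpen.isoSpec_inv_ι, Category.assoc, cancel_epi] at h5
    exact h5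
  set Z := U ⊓ X.basicOpen r
  refine SchDenseLib.hom_ext (dense_preimage_ι Z _ hDdense) pY _ _ ?_ ?_
  · rw [Category.assoc, Category.assoc, ← hS, Scheme.homOfLE_ι_assoc]
  · let q := IsOpenImmersion.lift E.ι ((Z.ι ⁻¹ᵁ X.basicOpen t).ι ≫ Z.ι) (by
      rintro _ ⟨y, rfl⟩
      rw [Scheme.Opens.range_ι, hEeq]
      exact ⟨y.2, y.1.2.2⟩)
    have hq : q ≫ E.ι = (Z.ι ⁻¹ᵁ X.basicOpen t).ι ≫ Z.ι := IsOpenImmersion.lift_fac _ _ _
    rw [← reassoc_of% hq, hagE]
    rw [← cancel_mono (𝟙 Y)]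
    simp only [← Category.assoc]
    congr 2
    rw [← cancel_mono U.ι]
    simp only [Category.assoc, Scheme.homOfLE_ι, hq]
    all_goals rfl

/-- The irreducible components of an open subscheme meeting finitely many components. -/
theorem finite_components {X : Scheme.{u}} {W W₀ : X.Opens} (hle : W ≤ W₀)
    (h : {Z : Set ↥X | Z ∈ irreducibleComponents ↥X ∧ (Z ∩ (W₀ : Set ↥X)).Nonempty}.Finite) :
    (irreducibleComponents ↥(W : Scheme.{u})).Finite := by
  refine (h.image fun C => W.ι ⁻¹' C).subset fun Z hZ => ?_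
  obtain ⟨C, hC, hZC⟩ := exists_mem_irreducibleComponents_subset_of_isIrreducible _
    (hZ.1.image W.ι W.ι.continuous.continuousOn)
  obtain ⟨z, hz⟩ := hZ.1.nonempty
  have hmem : W.ι z ∈ C := hZC ⟨z, hz, rfl⟩
  refine ⟨C, ⟨hC, _, hmem, hle z.2⟩, ?_⟩
  have h1 : W.ι ⁻¹' C ∈ irreducibleComponents ↥(W : Scheme.{u}) :=
    preimage_mem_irreducibleComponents hC W.ι.isOpenEmbedding ⟨_, hmem, z, rfl⟩
  exact (hZ.eq_of_le h1.1 fun y hy => hZC ⟨y, hy, rfl⟩).symm

/-- Germ injectivity for the schemes considered. -/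
theorem isGermInjectiveAt {X : Scheme.{u}}
    (hX : IsLocallyNoetherian X ∨ (IsReduced X ∧ ∀ x : ↥X, ∃ W : X.Opens, x ∈ W ∧
      {Z : Set ↥X | Z ∈ irreducibleComponents ↥X ∧ (Z ∩ (W : Set ↥X)).Nonempty}.Finite)) (x : X) :
    X.IsGermInjectiveAt x := by
  rcases hX with hn | ⟨hr, hfin⟩
  · infer_instance
  obtain ⟨W₀, hxW₀, hW₀⟩ := hfin x
  obtain ⟨W, hW, hxW, hWle⟩ := exists_isAffineOpen_mem_and_subset hxW₀
  haveI : IsAffine (W : Scheme.{u}) := hW
  have hmin : (minimalPrimes Γ(X, W)).Finite := by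
    have h1 := SchDenseLib.minimalPrimes_finite (finite_components hWle hW₀)
    have h2 : Finite (minimalPrimes Γ((W : Scheme.{u}), ⊤)) := h1.to_subtype
    let e : Γ((W : Scheme.{u}), ⊤) ≃+* Γ(X, W) := W.topIso.commRingCatIsoToRingEquiv
    have h3 : minimalPrimes Γ(X, W) ⊆ (fun q => q.map e.toRingHom) '' minimalPrimes Γ((W : Scheme.{u}), ⊤) := by
      intro q hq
      refine ⟨q.comap e.toRingHom, ?_, Ideal.map_comap_of_surjective _ e.surjective q⟩
      have := Ideal.comap_minimalPrimes_eq_of_surjective (f := e.toRingHom) e.surjective (I := (⊥ : Ideal _))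
      have hb : Ideal.comap e.toRingHom ⊥ = ⊥ := by
        rw [← RingHom.ker_eq_comap_bot]; exact RingHom.ker_coe_equiv e
      rw [hb] at this
      exact (Set.ext_iff.1 this _).2 ⟨q, hq, rfl⟩
    exact ((Set.finite_coe_iff.1 h2).image _).subset h3
  haveI : _root_.IsReduced Γ(X, W) := inferInstance
  haveI := isGermInjective_Spec (R := Γ(X, W)) hmin
  have hxr : x ∈ Set.range hW.fromSpec := by rw [hW.range_fromSpec]; exact hxW
  obtain ⟨p, rfl⟩ := hxr
  infer_instance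

/-- **A rational map extends near `x` iff it extends to `Spec 𝒪_x`.** -/
theorem main {X : Scheme.{u}} (pX : X ⟶ S)
    (hX : IsLocallyNoetherian X ∨ (IsReduced X ∧ ∀ x : ↥X, ∃ W : X.Opens, x ∈ W ∧
      {Z : Set ↥X | Z ∈ irreducibleComponents ↥X ∧ (Z ∩ (W : Set ↥X)).Nonempty}.Finite))
    (U : X.Opens) (hU : CInt.IsSchematicallyDense U) (h : (U : Scheme.{u}) ⟶ Y) (hh : h ≫ pY = U.ι ≫ pX)
    (x : ↥X) :
    (∃ (V : X.Opens) (v : (V : Scheme.{u}) ⟶ Y), x ∈ V ∧ v ≫ pY = V.ι ≫ pX ∧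
        X.homOfLE (inf_le_right : U ⊓ V ≤ V) ≫ v = X.homOfLE (inf_le_left : U ⊓ V ≤ U) ≫ h) ↔
      ∃ w : Spec (X.presheaf.stalk x) ⟶ Y, w ≫ pY = X.fromSpecStalk x ≫ pX ∧
        pullback.fst (X.fromSpecStalk x) U.ι ≫ w = pullback.snd (X.fromSpecStalk x) U.ι ≫ h := by
  constructor
  · rintro ⟨V, v, hxV, hvS, hv⟩
    refine ⟨V.fromSpecStalkOfMem x hxV ≫ v, ?_, ?_⟩
    · rw [Category.assoc, hvS, Scheme.Opens.fromSpecStalkOfMem_ι_assoc]
    · let m := IsOpenImmersion.lift (U ⊓ V).ι (pullback.snd (X.fromSpecStalk x) U.ι ≫ U.ι) (by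
        rintro _ ⟨y, rfl⟩
        rw [Scheme.Opens.range_ι]
        refine ⟨(pullback.snd (X.fromSpecStalk x) U.ι y).2, ?_⟩
        have hy : (pullback.snd (X.fromSpecStalk x) U.ι ≫ U.ι) y =
            (pullback.fst (X.fromSpecStalk x) U.ι ≫ V.fromSpecStalkOfMem x hxV ≫ V.ι) y := by
          rw [Scheme.Opens.fromSpecStalkOfMem_ι, pullback.condition]
        rw [SetLike.mem_coe, hy]
        exact (V.fromSpecStalkOfMem x hxV (pullback.fst (X.fromSpecStalk x) U.ι y)).2)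
      have hm : m ≫ (U ⊓ V).ι = pullback.snd (X.fromSpecStalk x) U.ι ≫ U.ι := IsOpenImmersion.lift_fac _ _ _
      have h1 : m ≫ X.homOfLE (inf_le_left : U ⊓ V ≤ U) = pullback.snd (X.fromSpecStalk x) U.ι := by
        rw [← cancel_mono U.ι, Category.assoc, Scheme.homOfLE_ι, hm]
      have h2 : m ≫ X.homOfLE (inf_le_right : U ⊓ V ≤ V) =
          pullback.fst (X.fromSpecStalk x) U.ι ≫ V.fromSpecStalkOfMem x hxV := by
        rw [← cancel_mono V.ι, Category.assoc, Scheme.homOfLE_ι, hm, Category.assoc,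
          Scheme.Opens.fromSpecStalkOfMem_ι, pullback.condition]
      rw [← reassoc_of% h2, hv, reassoc_of% h1]
  · rintro ⟨w, hwS, hw⟩
    haveI := isGermInjectiveAt hX x
    obtain ⟨V₀, hxV₀, v₀, hv₀, hv₀S⟩ := spread_out_of_isGermInjective' pX pY w hwS
    obtain ⟨W, hW, hxW, hWV, hWX⟩ : ∃ W : X.Opens, IsAffineOpen W ∧ x ∈ W ∧ W ≤ V₀ ∧
        (IsNoetherian (W : Scheme.{u}) ∨ (IsReduced (W : Scheme.{u}) ∧
          (irreducibleComponents ↥(W : Scheme.{u})).Finite)) := by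
      rcases hX with hn | ⟨hr, hfin⟩
      · obtain ⟨W, hW, hxW, hWle⟩ := exists_isAffineOpen_mem_and_subset hxV₀
        haveI : IsAffine (W : Scheme.{u}) := hW
        exact ⟨W, hW, hxW, hWle, .inl {}⟩
      · obtain ⟨W₀, hxW₀, hW₀⟩ := hfin x
        obtain ⟨W, hW, hxW, hWle⟩ := exists_isAffineOpen_mem_and_subset (U := V₀ ⊓ W₀) ⟨hxV₀, hxW₀⟩
        exact ⟨W, hW, hxW, fun y hy => (hWle hy).1, .inr ⟨inferInstance, finite_components (fun y hy => (hWle hy).2) hW₀⟩⟩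
    haveI : IsAffine (W : Scheme.{u}) := hW
    let x' : (W : Scheme.{u}) := ⟨x, hxW⟩
    let P := pullback ((W : Scheme.{u}).fromSpecStalk x') (W.ι ⁻¹ᵁ U).ι
    let σ : Spec ((W : Scheme.{u}).presheaf.stalk x') ⟶ Spec (X.presheaf.stalk x) := Spec.map (W.ι.stalkMap x')
    have hσ : σ ≫ X.fromSpecStalk x = (W : Scheme.{u}).fromSpecStalk x' ≫ W.ι :=
      Scheme.SpecMap_stalkMap_fromSpecStalk W.ι
    have hw' : (W : Scheme.{u}).fromSpecStalk x' ≫ X.homOfLE hWV ≫ v₀ = σ ≫ w := by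
      rw [hv₀, ← Category.assoc, ← Category.assoc σ]
      congr 1
      rw [← cancel_mono V₀.ι, Category.assoc, Category.assoc, Scheme.homOfLE_ι,
        Scheme.Opens.fromSpecStalkOfMem_ι, hσ]
    obtain ⟨V', hxV', hV'⟩ := affine_case pY (W : Scheme.{u}) hWX (W.ι ⁻¹ᵁ U) (dense_preimage_ι W U hU)
      ((W.ι ∣_ U) ≫ h) x' (X.homOfLE hWV ≫ v₀)
      (by simp only [Category.assoc, hh, hv₀S, morphismRestrict_ι_assoc, Scheme.homOfLE_ι_assoc])
      (by
        let m : P ⟶ pullback (X.fromSpecStalk x) U.ι :=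
          pullback.lift (pullback.fst _ _ ≫ σ) (pullback.snd _ _ ≫ (W.ι ∣_ U))
            (by rw [Category.assoc, hσ, Category.assoc, morphismRestrict_ι, pullback.condition_assoc])
        have := congrArg (m ≫ ·) hw
        simp only [m, pullback.lift_fst_assoc, pullback.lift_snd_assoc, Category.assoc] at this
        rw [hw', this])
    refine ⟨W.ι ''ᵁ V', X.homOfLE ((W.ι_image_le V').trans hWV) ≫ v₀, ⟨x', hxV', rfl⟩, ?_, ?_⟩
    · rw [Category.assoc, hv₀S, Scheme.homOfLE_ι_assoc]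
    · set Q := U ⊓ W.ι ''ᵁ V'
      let φ := IsOpenImmersion.lift ((W.ι ⁻¹ᵁ U ⊓ V').ι ≫ W.ι) Q.ι (by
        rintro _ ⟨y, rfl⟩
        obtain ⟨z, hz, hzy⟩ := y.2.2
        exact ⟨⟨z, show W.ι z ∈ U from hzy.symm ▸ y.2.1, hz⟩, hzy⟩)
      have hφ : φ ≫ (W.ι ⁻¹ᵁ U ⊓ V').ι ≫ W.ι = Q.ι := IsOpenImmersion.lift_fac _ _ _
      have h1 := congrArg (φ ≫ ·) hV'
      have h2 : φ ≫ (W.ι ⁻¹ᵁ U ⊓ V').ι ≫ X.homOfLE hWV =
          X.homOfLE (inf_le_right : Q ≤ W.ι ''ᵁ V') ≫ X.homOfLE ((W.ι_image_le V').trans hWV) := by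
        rw [← cancel_mono V₀.ι]
        simp only [Category.assoc, Scheme.homOfLE_ι, hφ]
        all_goals rfl
      have h3 : φ ≫ (W : Scheme.{u}).homOfLE (inf_le_left : W.ι ⁻¹ᵁ U ⊓ V' ≤ W.ι ⁻¹ᵁ U) ≫ (W.ι ∣_ U) =
          X.homOfLE (inf_le_left : Q ≤ U) := by
        rw [← cancel_mono U.ι]
        simp only [Category.assoc, morphismRestrict_ι, Scheme.homOfLE_ι, Scheme.homOfLE_ι_assoc, hφ]
        all_goals rfl
      rw [← reassoc_of% h2, h1, reassoc_of% h3]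

end Groth.Agent.RatExtend
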